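import Groth.Prelude.Def_CAlg
import Groth.Agent.S0335

/-! Connectedness in codimension one below a depth bound. -/

universe u

namespace Groth.Agent.H1ConnCodim

variable {A : Type u} [CommRing A]

/-- Two minimal primes meet in height `< d`. -/
def Rel (d : ℕ) (a b : Ideal A) : Prop :=
  b ∈ minimalPrimes A ∧ ∃ (q : Ideal A) (_ : q.IsPrime), a ≤ q ∧ b ≤ q ∧ q.height + 1 ≤ (d : ℕ∞)

theorem exists_chain {d : ℕ} {a b : Ideal A} (ha : a ∈ minimalPrimes A)
    (h : Relation.ReflTransGen (Rel d) a b) :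
    ∃ (n : ℕ) (c : Fin (n + 1) → Ideal A), c 0 = a ∧ c (Fin.last n) = b ∧ (∀ i, c i ∈ minimalPrimes A) ∧
      ∀ i : Fin n, ∃ (q : Ideal A) (_ : q.IsPrime),
        c i.castSucc ≤ q ∧ c i.succ ≤ q ∧ q.height + 1 ≤ (d : ℕ∞) := by
  induction h with
  | refl => exact ⟨0, fun _ => a, rfl, rfl, fun _ => ha, fun i => i.elim0⟩
  | @tail b c _ hbc ih =>
    obtain ⟨n, f, h0, hl, hm, hr⟩ := ih
    refine ⟨n + 1, Fin.snoc f c, ?_, Fin.snoc_last _ _, fun i => ?_, fun i => ?_⟩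
    · rw [← Fin.castSucc_zero, Fin.snoc_castSucc, h0]
    · refine Fin.lastCases ?_ (fun j => ?_) i
      · rw [Fin.snoc_last]; exact hbc.1
      · rw [Fin.snoc_castSucc]; exact hm j
    · refine Fin.lastCases ?_ (fun j => ?_) i
      · obtain ⟨q, hq, h1, h2, h3⟩ := hbc.2
        exact ⟨q, hq, by rw [Fin.snoc_castSucc, hl]; exact h1,
          by rw [Fin.succ_last, Fin.snoc_last]; exact h2, h3⟩
      · obtain ⟨q, hq, h1, h2, h3⟩ := hr j
        exact ⟨q, hq, by rw [Fin.snoc_castSucc]; exact h1,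
          by rw [Fin.succ_castSucc, Fin.snoc_castSucc]; exact h2, h3⟩

theorem connected_below [IsNoetherianRing A] (P : Ideal A) [P.IsPrime]
    (h : (2 : ℕ∞) ≤ LocCoh.depth (Localization.AtPrime P) (Localization.AtPrime P)) :
    IsPreconnected {x : PrimeSpectrum A | x.asIdeal < P} := by
  have hc := ((Groth.Agent.S0335.result (Localization.AtPrime P) h).image
    (PrimeSpectrum.comap (algebraMap A (Localization.AtPrime P)))
    (PrimeSpectrum.continuous_comap _).continuousOn).isPreconnected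
  convert hc using 1
  ext x
  constructor
  · intro hx
    have hx' : x ∈ Set.range (PrimeSpectrum.comap (algebraMap A (Localization.AtPrime P))) := by
      rw [PrimeSpectrum.localization_comap_range (Localization.AtPrime P) P.primeCompl]
      exact Set.disjoint_left.2 fun a ha hax => ha ((show x.asIdeal < P from hx).le hax)
    obtain ⟨y, rfl⟩ := hx'
    refine ⟨y, fun hy => (show (PrimeSpectrum.comap (algebraMap A (Localization.AtPrime P)) y).asIdeal < P from hx).ne ?_, rfl⟩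
    show y.asIdeal.comap _ = P
    rw [hy]
    exact IsLocalization.AtPrime.under_maximalIdeal (Localization.AtPrime P) P
  · rintro ⟨y, hy, rfl⟩
    have hle : y.asIdeal ≤ IsLocalRing.maximalIdeal _ := IsLocalRing.le_maximalIdeal y.isPrime.ne_top
    show y.asIdeal.comap _ < P
    refine lt_of_le_of_ne ((Ideal.comap_mono hle).trans_eq
      (IsLocalization.AtPrime.under_maximalIdeal (Localization.AtPrime P) P)) fun he => hy ?_
    refine le_antisymm hle ?_
    rw [← IsLocalization.map_comap P.primeCompl (Localization.AtPrime P) (IsLocalRing.maximalIdeal _),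
      ← IsLocalization.map_comap P.primeCompl (Localization.AtPrime P) y.asIdeal]
    refine Ideal.map_mono ?_
    refine le_of_eq ((IsLocalization.AtPrime.under_maximalIdeal (Localization.AtPrime P) P).trans he.symm)

theorem main [IsNoetherianRing A] [ConnectedSpace (PrimeSpectrum A)] (d : ℕ)
    (h : ∀ (p : Ideal A) [p.IsPrime], (d : ℕ∞) ≤ p.height →
      (2 : ℕ∞) ≤ LocCoh.depth (Localization.AtPrime p) (Localization.AtPrime p))
    (p' p'' : Ideal A) (hp' : p' ∈ minimalPrimes A) (hp'' : p'' ∈ minimalPrimes A) :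
    Relation.ReflTransGen (Rel d) p' p'' := by
  by_contra hno
  let G : Set (Ideal A) := {a | a ∈ minimalPrimes A ∧ Relation.ReflTransGen (Rel d) p' a}
  let H : Set (Ideal A) := {a | a ∈ minimalPrimes A ∧ ¬ Relation.ReflTransGen (Rel d) p' a}
  have hfin := minimalPrimes.finite_of_isNoetherianRing A
  let V : Set (Ideal A) → Set (PrimeSpectrum A) := fun S =>
    ⋃ a ∈ S, PrimeSpectrum.zeroLocus (a : Set A)
  have hV : ∀ S : Set (Ideal A), S ⊆ minimalPrimes A → IsClosed (V S) := fun S hS =>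
    (hfin.subset hS).isClosed_biUnion fun a _ => PrimeSpectrum.isClosed_zeroLocus _
  have hV1 : IsClosed (V G) := hV G fun a ha => ha.1
  have hV2 : IsClosed (V H) := hV H fun a ha => ha.1
  have hmem : ∀ (S : Set (Ideal A)) (x : PrimeSpectrum A), x ∈ V S ↔ ∃ a ∈ S, a ≤ x.asIdeal := by
    intro S x
    simp only [V, Set.mem_iUnion, PrimeSpectrum.mem_zeroLocus, SetLike.coe_subset_coe, exists_prop]
  have hcov : ∀ x : PrimeSpectrum A, x ∈ V G ∪ V H := fun x => by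
    obtain ⟨a, ha, hax⟩ := Ideal.exists_minimalPrimes_le (bot_le : ⊥ ≤ x.asIdeal)
    by_cases hr : Relation.ReflTransGen (Rel d) p' a
    · exact Or.inl ((hmem _ x).2 ⟨a, ⟨ha, hr⟩, hax⟩)
    · exact Or.inr ((hmem _ x).2 ⟨a, ⟨ha, hr⟩, hax⟩)
  obtain ⟨y, -, hy⟩ := isPreconnected_closed_iff.1 isPreconnected_univ (V G) (V H) hV1 hV2
    (fun x _ => hcov x)
    ⟨⟨p', hp'.1.1⟩, trivial, (hmem _ _).2 ⟨p', ⟨hp', .refl⟩, le_refl p'⟩⟩
    ⟨⟨p'', hp''.1.1⟩, trivial, (hmem _ _).2 ⟨p'', ⟨hp'', hno⟩, le_refl p''⟩⟩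
  obtain ⟨I, hI⟩ := (PrimeSpectrum.isClosed_iff_zeroLocus_ideal _).1 (hV1.inter hV2)
  rw [hI] at hy
  obtain ⟨P, hP, -⟩ := Ideal.exists_minimalPrimes_le (show I ≤ y.asIdeal from hy)
  haveI := hP.1.1
  obtain ⟨hP1, hP2⟩ : (⟨P, hP.1.1⟩ : PrimeSpectrum A) ∈ V G ∩ V H := by
    rw [hI]; exact hP.1.2
  obtain ⟨a, ha, haP⟩ := (hmem _ _).1 hP1
  obtain ⟨b, hb, hbP⟩ := (hmem _ _).1 hP2
  have hab : a ≠ b := fun e => hb.2 (e ▸ ha.2)
  have hd : (d : ℕ∞) ≤ P.height := by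
    have hn : ¬ P.height + 1 ≤ (d : ℕ∞) := fun hle =>
      hb.2 (ha.2.tail ⟨hb.1, P, hP.1.1, haP, hbP, hle⟩)
    exact Order.le_of_lt_add_one (not_le.1 hn)
  have hne : ∀ c ∈ minimalPrimes A, ∀ e ∈ minimalPrimes A, c ≠ e → e ≤ P → c ≠ P :=
    fun c hc e he hce heP hcP => hce (le_antisymm (hc.2 ⟨he.1.1, bot_le⟩ (hcP ▸ heP)) (hcP ▸ heP))
  obtain ⟨x, hxP, hx⟩ := isPreconnected_closed_iff.1 (connected_below P (h P hd)) (V G) (V H) hV1 hV2
    (fun x _ => hcov x)
    ⟨⟨a, ha.1.1.1⟩, lt_of_le_of_ne haP (hne a ha.1 b hb.1 hab hbP), (hmem _ _).2 ⟨a, ha, le_refl a⟩⟩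
    ⟨⟨b, hb.1.1.1⟩, lt_of_le_of_ne hbP (hne b hb.1 a ha.1 hab.symm haP), (hmem _ _).2 ⟨b, hb, le_refl b⟩⟩
  rw [hI] at hx
  exact hxP.not_ge (hP.2 ⟨x.isPrime, hx⟩ hxP.le)

end Groth.Agent.H1ConnCodim
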